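import Mathlib
import Cfsg.Prelude.Def_Transfer
import Cfsg.Agent.Lib.Transfer.NormalComplement
import Cfsg.Agent.Lib.Involutions.WeaklyClosedCentral

/-!
Finite groups with few classes of 2-elements relative to a Sylow 2-subgroup: the case of exactly
half the order.
-/

set_option autoImplicit false
set_option linter.all false

namespace CfsgLib.TwoClasses78

open Subgroup
open scoped Pointwise commutatorElement

universe u

variable {G : Type u} [Group G]

/-- An odd-order element lies in `H` as soon as a 2-power of it does. -/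
theorem mem_of_two_pow {H : Subgroup G} {g : G} (hodd : (orderOf g).Coprime 2) {a : ℕ}
    (h : g ^ 2 ^ a ∈ H) : g ∈ H := by
  obtain ⟨m, hm⟩ := exists_pow_eq_self_of_coprime (Nat.Coprime.pow_left a hodd.symm)
  rw [← hm]
  exact pow_mem h m

/-- In a normaliser, powers of a coset representative agree modulo the subgroup. -/
theorem pow_mul_mem {K : Subgroup G} {k g : G} (hk : k ∈ K) (hg : g ∈ normalizer (K : Set G)) :
    ∀ n : ℕ, ∃ k' ∈ K, (k * g) ^ n = k' * g ^ n
  | 0 => ⟨1, one_mem _, by simp⟩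
  | n + 1 => by
    obtain ⟨k', hk', e⟩ := pow_mul_mem hk hg n
    refine ⟨k' * (g ^ n * k * (g ^ n)⁻¹), mul_mem hk' ?_, ?_⟩
    · exact (mem_set_normalizer_iff.1 (pow_mem hg n) k).1 hk
    · rw [pow_succ, e, pow_succ]; group

theorem exists_two_pow_orderOf [Finite G] (x : G) :
    ∃ a : ℕ, (orderOf (x ^ 2 ^ a)).Coprime 2 := by
  obtain ⟨a, m, hm, e⟩ := Nat.exists_eq_two_pow_mul_odd (orderOf_pos x).ne'
  refine ⟨a, Nat.coprime_two_right.2 ?_⟩
  rw [orderOf_pow' _ (by positivity), e, Nat.gcd_eq_right (Dvd.intro m rfl),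
    Nat.mul_div_cancel_left _ (by positivity)]
  exact hm

/-- A group with trivial odd core and a normal 2-complement is a 2-group. -/
theorem isPGroup_of_complement [Finite G] (hO : Cfsg.pPrimeCore 2 G = ⊥)
    (h : Cfsg.HasNormalPComplement 2 G) : IsPGroup 2 G := by
  haveI : Fact (Nat.Prime 2) := ⟨Nat.prime_two⟩
  obtain ⟨P, N, hN, hc⟩ := h
  have hN1 : N = ⊥ := eq_bot_iff.2 (hO ▸ CfsgLib.PCore.le_pPrimeCore_of_not_dvd hN (by
    rw [← hc.index_eq_card]; exact P.not_dvd_index))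
  rw [hN1, isComplement'_bot_left] at hc
  exact P.2.of_equiv ((MulEquiv.subgroupCongr hc).trans topEquiv)

/-- The number of classes of a 2-group is congruent to its order modulo 3. -/
theorem classes_mod_three [Finite G] (hG : IsPGroup 2 G) :
    2 * Nat.card (ConjClasses G) ≠ Nat.card G := by
  classical
  haveI : Fact (Nat.Prime 3) := ⟨Nat.prime_three⟩
  haveI : Fact (Nat.Prime 2) := ⟨Nat.prime_two⟩
  letI : Fintype G := Fintype.ofFinite G
  let α := {p : G × G // Commute p.1 p.2}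
  let f : Function.End α := fun p =>
    ⟨(p.1.2, (p.1.1 * p.1.2)⁻¹), ((p.2.symm.mul_right (Commute.refl _))).inv_right⟩
  have hf : f ^ 3 ^ 1 = 1 := by
    funext p
    obtain ⟨⟨x, y⟩, hxy⟩ := p
    apply Subtype.ext
    show ((f (f (f ⟨(x, y), hxy⟩))).1 : G × G) = (x, y)
    simp only [f]
    have hc : x * y = y * x := hxy.eq
    refine Prod.ext ?_ ?_ <;> simp [mul_assoc]
  have hm := Equiv.Perm.card_fixedPoints_modEq hf
  have hfix : Fintype.card f.fixedPoints = 1 := by
    rw [Fintype.card_eq_one_iff]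
    refine ⟨⟨⟨(1, 1), Commute.one_left _⟩, Subtype.ext (Prod.ext rfl (by simp [f]))⟩, ?_⟩
    rintro ⟨⟨⟨x, y⟩, hxy⟩, hp⟩
    have h1 := congrArg (fun q : α => q.1.1) hp
    have h2 := congrArg (fun q : α => q.1.2) hp
    simp only [f] at h1 h2
    subst h1
    have h3 : y ^ 3 = 1 := by
      have : y * y * y = 1 := by
        have h4 := congrArg (fun z => (y * y) * z) h2
        simp at h4
        exact h4.symm
      rw [pow_three, ← mul_assoc]; exact this
    obtain ⟨k, hk⟩ := hG y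
    have : y = 1 := orderOf_eq_one_iff.1 (Nat.eq_one_of_dvd_coprimes (a := 2 ^ k) (b := 3)
      (Nat.Coprime.pow_left k (by norm_num)) (orderOf_dvd_of_pow_eq_one hk)
      (orderOf_dvd_of_pow_eq_one h3))
    subst this
    rfl
  rw [hfix, ← Nat.card_eq_fintype_card, card_comm_eq_card_conjClasses_mul_card] at hm
  intro h
  obtain ⟨k, hk⟩ := hG.exists_card_eq
  have h4 : (2 * Nat.card (ConjClasses G)) * Nat.card G ≡ 2 * 1 [MOD 3] := by
    rw [mul_assoc]; exact hm.mul_left 2
  rw [h, hk, ← pow_add, show k + k = 2 * k by ring, pow_mul, Nat.ModEq, Nat.pow_mod] at h4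
  norm_num at h4

/-- An odd element `g` normalising but not centralising a 2-subgroup. -/
def Bad (R : Subgroup G) : Prop :=
  IsPGroup 2 R ∧ ∃ g ∈ normalizer (R : Set G), (orderOf g).Coprime 2 ∧ g ∉ centralizer (R : Set G)

theorem exists_bad_centric [Finite G] (hO : Cfsg.pPrimeCore 2 G = ⊥) (hG : ¬ IsPGroup 2 G) :
    ∃ R : Subgroup G, Bad R ∧
      ∀ y : G, (∃ k : ℕ, y ^ 2 ^ k = 1) → y ∈ centralizer (R : Set G) → y ∈ R := by
  classical
  haveI : Fact (Nat.Prime 2) := ⟨Nat.prime_two⟩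
  have hne : {R : Subgroup G | Bad R}.Nonempty := by
    by_contra h
    refine hG (isPGroup_of_complement hO
      (CfsgLib.Transfer.hasNormalPComplement_of_frobeniusCond fun Q hQ g hg hc => ?_))
    by_contra hn
    exact h ⟨Q, hQ, g, hg, hc, hn⟩
  obtain ⟨R, hR, hmax⟩ := (Set.toFinite {R : Subgroup G | Bad R}).exists_maximalFor id _ hne
  refine ⟨R, hR, fun y hy hyc => ?_⟩
  obtain ⟨hR2, g, hg, hgo, hgc⟩ := hR
  by_contra hyR
  set Ce := centralizer (R : Set G) with hCe
  have hRn : Ce ≤ normalizer (R : Set G) := centralizer_le_normalizer _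
  set K := R ⊔ Ce with hK
  have hKn : K ≤ normalizer (R : Set G) := sup_le le_normalizer hRn
  have hCn : ∀ h ∈ normalizer (R : Set G), h ∈ normalizer (K : Set G) := by
    have key : ∀ h ∈ normalizer (R : Set G), K ≤ K.comap (MulAut.conj h).toMonoidHom := by
      intro h hh
      refine sup_le (fun r hr => mem_sup_left ((mem_set_normalizer_iff.1 hh r).1 hr))
        (fun c hc => mem_sup_right ?_)
      rw [mem_centralizer_iff] at hc ⊢
      intro r hr
      have hr' : h⁻¹ * r * h ∈ R := by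
        have := (mem_set_normalizer_iff.1 (inv_mem hh) r).1 hr
        simpa using this
      have e := hc _ hr'
      show r * (h * c * h⁻¹) = h * c * h⁻¹ * r
      calc r * (h * c * h⁻¹) = h * (h⁻¹ * r * h * c) * h⁻¹ := by group
        _ = h * (c * (h⁻¹ * r * h)) * h⁻¹ := by rw [e]
        _ = h * c * h⁻¹ * r := by group
    intro h hh
    rw [mem_set_normalizer_iff]
    refine fun x => ⟨fun hx => key h hh hx, fun hx => ?_⟩
    have := key h⁻¹ (inv_mem hh) hx
    simpa [mul_assoc] using this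
  -- a Sylow 2-subgroup of `K` containing `R` and `y`
  have hU : IsPGroup 2 ↥(R ⊔ zpowers y) := by
    rw [sup_comm]
    refine IsPGroup.to_sup_of_normal_right' ?_ hR2 (zpowers_le.2 (hRn hyc))
    obtain ⟨k, hk⟩ := hy
    obtain ⟨j, -, hj⟩ := (Nat.dvd_prime_pow Nat.prime_two).mp (orderOf_dvd_of_pow_eq_one hk)
    exact IsPGroup.of_card (n := j) (by rw [Nat.card_zpowers, hj])
  have hUK : R ⊔ zpowers y ≤ K := sup_le le_sup_left (zpowers_le.2 (mem_sup_right hyc))
  obtain ⟨T₀, hT₀⟩ := (hU.comap_subtype (K := K)).exists_le_sylow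
  set T := (T₀ : Subgroup K).map K.subtype with hT
  have hT2 : IsPGroup 2 T := T₀.2.map _
  have hRT : R ⊔ zpowers y ≤ T := fun x hx => ⟨⟨x, hUK hx⟩, hT₀ hx, rfl⟩
  have hTK : T ≤ K := map_subtype_le _
  -- move `g` into the normaliser of `T`
  let φ : K ≃* K :=
    { toFun := fun x => ⟨g * x * g⁻¹, (mem_set_normalizer_iff.1 (hCn g hg) x).1 x.2⟩
      invFun := fun x => ⟨g⁻¹ * x * g, by
        have := (mem_set_normalizer_iff.1 (hCn _ (inv_mem hg)) x).1 x.2
        simpa using this⟩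
      left_inv := fun x => Subtype.ext (by group)
      right_inv := fun x => Subtype.ext (by group)
      map_mul' := fun x z => Subtype.ext (by simp [mul_assoc]) }
  obtain ⟨k, hk⟩ := MulAction.exists_smul_eq K
    (T₀.comapOfInjective φ.symm.toMonoidHom φ.symm.injective (by
      intro x _; exact ⟨φ x, φ.symm_apply_apply x⟩)) T₀
  have hkT : ∀ x ∈ T, (k : G) * g * x * ((k : G) * g)⁻¹ ∈ T := by
    rintro _ ⟨x, hx, rfl⟩
    refine ⟨k * φ x * k⁻¹, ?_, by simp [φ, mul_assoc]⟩
    rw [SetLike.mem_coe, ← hk]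
    exact ⟨φ x, show φ.symm (φ x) ∈ (T₀ : Subgroup K) by rw [φ.symm_apply_apply]; exact hx, rfl⟩
  have hh : (k : G) * g ∈ normalizer (T : Set G) := mem_normalizer_fintype fun x hx => hkT x hx
  obtain ⟨a, ha⟩ := exists_two_pow_orderOf ((k : G) * g)
  have hcent : ((k : G) * g) ^ 2 ^ a ∈ Ce := by
    by_contra hn
    have hTbad : Bad T := ⟨hT2, _, pow_mem hh _, ha, fun hc => hn
      (centralizer_le (fun r hr => hRT (mem_sup_left hr)) hc)⟩
    exact hyR (hmax hTbad ((le_sup_left).trans hRT) (hRT (mem_sup_right (mem_zpowers y))))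
  -- so `g` acts as an element of `R`
  have hgK : g ∈ K := by
    obtain ⟨k', hk', e⟩ := pow_mul_mem k.2 (hCn g hg) (2 ^ a)
    refine mem_of_two_pow hgo (a := a) ?_
    have : ((k : G) * g) ^ 2 ^ a ∈ K := mem_sup_right hcent
    rw [e] at this
    exact (mul_mem_cancel_left hk').1 this
  have hset : (g : G) ∈ (R : Set G) * (Ce : Set G) := by
    rw [← coe_mul_of_right_le_normalizer_left R Ce hRn]; exact hgK
  obtain ⟨r, hr, c, hc, hrc⟩ := hset
  obtain ⟨j, hj⟩ := hR2 ⟨r, hr⟩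
  refine hgc (mem_of_two_pow hgo (a := j) ?_)
  have hcomm : Commute r c := (mem_centralizer_iff.1 hc r hr)
  have hj' : r ^ 2 ^ j = 1 := by simpa using congrArg Subtype.val hj
  rw [← hrc, hcomm.mul_pow, hj', one_mul]
  exact pow_mem hc _

section Count

variable [Finite G] (P : Sylow 2 G)

/-- The number of elements of the Sylow subgroup in the class of `x`. -/
noncomputable def mult (x : G) : ℕ :=
  Nat.card {y : (P : Subgroup G) // IsConj x (y : G)}

/-- Six divided by the multiplicity, rounded up below three. -/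
def wt (m : ℕ) : ℕ := if m = 1 then 6 else if m = 2 then 3 else 2

theorem mult_eq_of_conj {x y : G} (h : IsConj x y) : mult P x = mult P y :=
  Nat.card_congr (Equiv.subtypeEquivRight fun _ => ⟨h.symm.trans, h.trans⟩)

theorem two_le_mult {x y : G} (hy : y ∈ (P : Subgroup G)) (hx : x ∈ (P : Subgroup G))
    (h : IsConj x y) (hne : y ≠ x) : 2 ≤ mult P x := by
  classical
  rw [mult, Nat.succ_le_iff, Finite.one_lt_card_iff_nontrivial]
  exact ⟨⟨⟨x, hx⟩, IsConj.refl x⟩, ⟨⟨y, hy⟩, h⟩, fun he => hne (by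
    simpa using (congrArg (fun z => ((z.1 : (P : Subgroup G)) : G)) he).symm)⟩

theorem eq_of_mult_one {x y : G} (hy : y ∈ (P : Subgroup G)) (hx : x ∈ (P : Subgroup G))
    (h : IsConj x y) (hm : mult P x = 1) : y = x := by
  by_contra hne
  have := two_le_mult P hy hx h hne
  omega

/-- The fibre of the class map. -/
theorem six_mul_classes [DecidableEq (ConjClasses G)] [Fintype ↥(P : Subgroup G)] :
    6 * Nat.card {c : ConjClasses G // ∀ x ∈ c.carrier, ∃ k : ℕ, orderOf x = 2 ^ k} =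
      ∑ _c ∈ Finset.univ.image (fun x : ↥(P : Subgroup G) => ConjClasses.mk (x : G)), 6 := by
  haveI : Fact (Nat.Prime 2) := ⟨Nat.prime_two⟩
  rw [Finset.sum_const, smul_eq_mul, mul_comm]
  congr 1
  rw [← Nat.card_eq_finsetCard]
  refine Nat.card_congr (Equiv.subtypeEquivRight fun c => ?_)
  constructor
  · intro hc
    obtain ⟨x, rfl⟩ := ConjClasses.mk_surjective c
    obtain ⟨k, hk⟩ := hc x (ConjClasses.mem_carrier_mk)
    have hx2 : IsPGroup 2 (zpowers x) := IsPGroup.of_card (n := k) (by rw [Nat.card_zpowers, hk])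
    obtain ⟨R, hR⟩ := hx2.exists_le_sylow
    obtain ⟨a, ha⟩ := MulAction.exists_smul_eq G R P
    refine Finset.mem_image.2 ⟨⟨a * x * a⁻¹, ?_⟩, Finset.mem_univ _, ?_⟩
    · rw [← ha]; exact ⟨x, hR (mem_zpowers x), rfl⟩
    · exact ConjClasses.mk_eq_mk_iff_isConj.2 (isConj_iff.2 ⟨a, rfl⟩).symm
  · intro hc
    obtain ⟨y, -, rfl⟩ := Finset.mem_image.1 hc
    intro x hx
    obtain ⟨k, hk⟩ := P.2 y
    have hk' : (y : G) ^ 2 ^ k = 1 := by simpa using congrArg Subtype.val hk
    obtain ⟨j, -, hj⟩ := (Nat.dvd_prime_pow Nat.prime_two).mp (orderOf_dvd_of_pow_eq_one hk')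
    obtain ⟨a, rfl⟩ := isConj_iff.1 (ConjClasses.mem_carrier_iff_mk_eq.1 hx |>
      ConjClasses.mk_eq_mk_iff_isConj.1).symm
    exact ⟨j, by rw [show a * (y : G) * a⁻¹ = MulAut.conj a (y : G) from rfl,
      MulEquiv.orderOf_eq, hj]⟩

/-- The weights bound the number of classes, with equality only for exact multiplicities. -/
theorem six_classes_le [Fintype ↥(P : Subgroup G)] :
    6 * Nat.card {c : ConjClasses G // ∀ x ∈ c.carrier, ∃ k : ℕ, orderOf x = 2 ^ k} ≤
        ∑ x : ↥(P : Subgroup G), wt (mult P x) ∧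
      (6 * Nat.card {c : ConjClasses G // ∀ x ∈ c.carrier, ∃ k : ℕ, orderOf x = 2 ^ k} =
          ∑ x : ↥(P : Subgroup G), wt (mult P x) →
        ∀ x : ↥(P : Subgroup G), mult P x * wt (mult P x) = 6) := by
  classical
  set φ : ↥(P : Subgroup G) → ConjClasses G := fun x => ConjClasses.mk (x : G) with hφ
  set T := Finset.univ.image φ with hT
  have hsum : ∑ x : ↥(P : Subgroup G), wt (mult P x) =
      ∑ c ∈ T, ∑ x ∈ Finset.univ.filter (fun x => φ x = c), wt (mult P x) :=
    (Finset.sum_fiberwise_of_maps_to (fun x _ => Finset.mem_image_of_mem φ (Finset.mem_univ x)) _).symm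
  have hfib : ∀ x : ↥(P : Subgroup G),
      ∑ y ∈ Finset.univ.filter (fun y => φ y = φ x), wt (mult P y) = mult P x * wt (mult P x) := by
    intro x
    rw [Finset.sum_const_nat (m := wt (mult P x))]
    · congr 1
      rw [mult, ← Nat.card_eq_finsetCard]
      refine Nat.card_congr (Equiv.subtypeEquivRight fun y => ?_)
      rw [Finset.mem_filter, hφ]
      exact ⟨fun h => (ConjClasses.mk_eq_mk_iff_isConj.1 h.2).symm,
        fun h => ⟨Finset.mem_univ _, ConjClasses.mk_eq_mk_iff_isConj.2 h.symm⟩⟩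
    · intro y hy
      rw [mult_eq_of_conj P (ConjClasses.mk_eq_mk_iff_isConj.1 (Finset.mem_filter.1 hy).2)]
  have hge : ∀ c ∈ T, 6 ≤ ∑ x ∈ Finset.univ.filter (fun x => φ x = c), wt (mult P x) := by
    intro c hc
    obtain ⟨x, -, rfl⟩ := Finset.mem_image.1 hc
    rw [hfib]
    have : 1 ≤ mult P x := Nat.card_pos_iff.2 ⟨⟨⟨x, IsConj.refl _⟩⟩, inferInstance⟩
    unfold wt
    split_ifs <;> omega
  rw [six_mul_classes P, hsum]
  refine ⟨Finset.sum_le_sum hge, fun he x => ?_⟩
  rw [← hfib]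
  exact ((Finset.sum_eq_sum_iff_of_le hge).1 he (φ x) (Finset.mem_image_of_mem φ (Finset.mem_univ x))).symm

/-- The local shape forced by having exactly half as many classes of 2-elements. -/
structure Shape (E : Subgroup G) : Prop where
  le : E ≤ (P : Subgroup G)
  center_le : Subgroup.center G ≤ E
  card : Nat.card E = 4 * Nat.card (Subgroup.center G)
  normal : ∀ p ∈ (P : Subgroup G), ∀ e ∈ E, p * e * p⁻¹ ∈ E
  index : Nat.card (P : Subgroup G) = Nat.card E ∨ Nat.card (P : Subgroup G) = 2 * Nat.card E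
  sq : ∀ e ∈ E, e * e ∈ Subgroup.center G
  moves : ∀ p ∈ (P : Subgroup G), p ∉ E → ∃ e ∈ E, p * e * p⁻¹ * e⁻¹ ∉ Subgroup.center G
  focal : (P : Subgroup G) ⊓ commutator G ≤ E
  odd : ∃ g : G, g ∉ Subgroup.center G ∧ (orderOf g).Coprime 2

/-- The centre of a group with trivial odd core lies in every Sylow 2-subgroup. -/
theorem center_le_sylow (hO : Cfsg.pPrimeCore 2 G = ⊥) : Subgroup.center G ≤ (P : Subgroup G) := by
  haveI : Fact (Nat.Prime 2) := ⟨Nat.prime_two⟩
  intro z hz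
  obtain ⟨a, ha⟩ := exists_two_pow_orderOf z
  have hw : z ^ 2 ^ a ∈ Subgroup.center G := pow_mem hz _
  have h1 : z ^ 2 ^ a = 1 := by
    have hn : (zpowers (z ^ 2 ^ a)).Normal := ⟨fun n hn b => by
      have : n ∈ Subgroup.center G := zpowers_le.2 hw hn
      rw [mem_center_iff.1 this b, mul_inv_cancel_right]
      exact hn⟩
    have := CfsgLib.PCore.le_pPrimeCore (p := 2) hn (by rwa [Nat.card_zpowers])
    rw [hO] at this
    exact mem_bot.1 (this (mem_zpowers _))
  obtain ⟨j, -, hj⟩ := (Nat.dvd_prime_pow Nat.prime_two).mp (orderOf_dvd_of_pow_eq_one h1)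
  refine CfsgLib.Transfer.isPGroup_mem_of_mem_normalizer P ?_ a h1
  exact centralizer_le_normalizer _ (mem_centralizer_iff.2 fun x _ => mem_center_iff.1 hz x)

set_option maxHeartbeats 1000000 in
theorem shape (hO : Cfsg.pPrimeCore 2 G = ⊥)
    (hk : 2 * Nat.card {c : ConjClasses G // ∀ x ∈ c.carrier, ∃ k : ℕ, orderOf x = 2 ^ k} =
      Nat.card (P : Subgroup G)) :
    ∃ E : Subgroup G, Shape P E := by
  classical
  haveI : Fact (Nat.Prime 2) := ⟨Nat.prime_two⟩
  letI : Fintype ↥(P : Subgroup G) := Fintype.ofFinite _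
  have hG : ¬ IsPGroup 2 G := by
    intro h
    refine classes_mod_three h ?_
    have h1 : Nat.card {c : ConjClasses G // ∀ x ∈ c.carrier, ∃ k : ℕ, orderOf x = 2 ^ k} =
        Nat.card (ConjClasses G) := Nat.card_congr (Equiv.subtypeUnivEquiv fun c x _ => by
      obtain ⟨k, hk⟩ := h x
      obtain ⟨j, -, hj⟩ := (Nat.dvd_prime_pow Nat.prime_two).mp (orderOf_dvd_of_pow_eq_one hk)
      exact ⟨j, hj⟩)
    have htop : (P : Subgroup G) = ⊤ := (P.3 (h.to_subgroup ⊤) le_top).symm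
    rw [h1, htop, card_top] at hk
    exact hk
  obtain ⟨R₀, ⟨hR2, g₀, hg₀, hg₀o, hg₀c⟩, hcen₀⟩ := exists_bad_centric hO hG
  obtain ⟨Q, hQ⟩ := hR2.exists_le_sylow
  obtain ⟨a, ha⟩ := MulAction.exists_smul_eq G Q P
  -- conjugate into `P`
  set c := MulAut.conj a with hc
  set E := R₀.map c.toMonoidHom with hE
  set g := c g₀ with hg
  have hEP : E ≤ (P : Subgroup G) := by
    rintro _ ⟨x, hx, rfl⟩
    rw [← ha]; exact ⟨x, hQ hx, rfl⟩
  have hgo : (orderOf g).Coprime 2 := by rwa [hg, MulEquiv.orderOf_eq]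
  have hgn : ∀ x, x ∈ E → g * x * g⁻¹ ∈ E := by
    rintro _ ⟨x, hx, rfl⟩
    exact ⟨g₀ * x * g₀⁻¹, (mem_set_normalizer_iff.1 hg₀ x).1 hx, by simp [hg]⟩
  have hgE : ∃ x ∈ E, g * x * g⁻¹ ≠ x := by
    by_contra hne
    push_neg at hne
    refine hg₀c (mem_centralizer_iff.2 fun x hx => c.injective ?_)
    have := hne (c x) (mem_map_of_mem _ hx)
    rw [map_mul, map_mul]
    exact (mul_inv_eq_iff_eq_mul.1 this).symm
  have hcenE : ∀ y ∈ (P : Subgroup G), y ∈ centralizer (E : Set G) → y ∈ E := by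
    intro y hy hyc
    refine ⟨c.symm y, hcen₀ _ ?_ (mem_centralizer_iff.2 fun x hx => c.injective ?_),
      c.apply_symm_apply y⟩
    · obtain ⟨k, hk⟩ := P.2 ⟨y, hy⟩
      exact ⟨k, c.injective (by rw [map_pow, c.apply_symm_apply, map_one]
                                simpa using congrArg Subtype.val hk)⟩
    · rw [map_mul, map_mul, c.apply_symm_apply]
      exact mem_centralizer_iff.1 hyc _ (mem_map_of_mem c.toMonoidHom hx)
  set C := E ⊓ centralizer ({g} : Set G) with hCdef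
  have hC : ∀ x, x ∈ C ↔ x ∈ E ∧ g * x * g⁻¹ = x := by
    intro x
    rw [hCdef, mem_inf, mem_centralizer_singleton_iff, mul_inv_eq_iff_eq_mul]
    exact ⟨fun h => ⟨h.1, h.2.symm⟩, fun h => ⟨h.1, h.2.symm⟩⟩
  have hCE : C ≤ E := inf_le_left
  -- moving elements
  have hfix : ∀ x : G, ∀ n : ℕ, g * x * g⁻¹ = x → g ^ n * x * (g ^ n)⁻¹ = x := by
    intro x n h
    have : Commute g x := mul_inv_eq_iff_eq_mul.1 h
    rw [(this.pow_left n).eq, mul_inv_cancel_right]
  have hfix2 : ∀ x : G, g ^ 2 * x * (g ^ 2)⁻¹ = x → g * x * g⁻¹ = x := by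
    intro x h
    have h1 : g ^ 2 ^ 1 ∈ centralizer ({x} : Set G) := by
      rw [mem_centralizer_singleton_iff, pow_one]; exact mul_inv_eq_iff_eq_mul.1 h
    have := mem_centralizer_singleton_iff.1 (mem_of_two_pow hgo h1)
    rw [this, mul_inv_cancel_right]
  have hdist : ∀ x ∈ E, x ∉ C → g * x * g⁻¹ ≠ x ∧ g * (g * x * g⁻¹) * g⁻¹ ≠ x ∧
      g * (g * x * g⁻¹) * g⁻¹ ≠ g * x * g⁻¹ := by
    intro x hx hxC
    have h0 : g * x * g⁻¹ ≠ x := fun h => hxC ((hC x).2 ⟨hx, h⟩)
    refine ⟨h0, fun h => h0 (hfix2 x ?_), fun h => h0 (mul_left_cancel (mul_right_cancel h))⟩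
    rw [show g ^ 2 * x * (g ^ 2)⁻¹ = g * (g * x * g⁻¹) * g⁻¹ by rw [pow_two]; group]
    exact h
  let orb : G → Finset G := fun x => {x, g * x * g⁻¹, g * (g * x * g⁻¹) * g⁻¹}
  have horbsub : ∀ x ∈ E, ∀ y ∈ orb x, y ∈ (P : Subgroup G) ∧ IsConj x y := by
    intro x hx y hy
    simp only [orb, Finset.mem_insert, Finset.mem_singleton] at hy
    rcases hy with rfl | rfl | rfl
    · exact ⟨hEP hx, IsConj.refl _⟩
    · exact ⟨hEP (hgn _ hx), isConj_iff.2 ⟨g, rfl⟩⟩
    · exact ⟨hEP (hgn _ (hgn _ hx)), isConj_iff.2 ⟨g * g, by group⟩⟩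
  have horbcard : ∀ x ∈ E, x ∉ C → (orb x).card = 3 := by
    intro x hx hxC
    obtain ⟨h0, h1, h2⟩ := hdist x hx hxC
    exact Finset.card_eq_three.2 ⟨_, _, _, h0.symm, h1.symm, h2.symm, rfl⟩
  have hinj : ∀ x ∈ E, ∀ (s : Finset G), (∀ y ∈ s, y ∈ (P : Subgroup G) ∧ IsConj x y) →
      s.card ≤ mult P x := by
    intro x hx s hs
    rw [mult, ← Nat.card_eq_finsetCard]
    refine Nat.card_le_card_of_injective
      (fun y => ⟨⟨y.1, (hs y.1 y.2).1⟩, (hs y.1 y.2).2⟩) fun u v h => ?_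
    exact Subtype.ext (congrArg (fun z : {y : ↥(P : Subgroup G) // IsConj x (y : G)} => (z.1 : G)) h)
  have hm3 : ∀ x ∈ E, x ∉ C → 3 ≤ mult P x := fun x hx hxC =>
    (horbcard x hx hxC).symm.le.trans (hinj x hx _ (horbsub x hx))
  have hm2 : ∀ x ∈ (P : Subgroup G), x ∉ E → 2 ≤ mult P x := by
    intro x hx hxE
    have : ¬ x ∈ centralizer (E : Set G) := fun h => hxE (hcenE x hx h)
    rw [mem_centralizer_iff] at this
    push_neg at this
    obtain ⟨e, he, hne⟩ := this
    refine two_le_mult P (mul_mem (mul_mem (hEP he) hx) (inv_mem (hEP he))) hx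
      (isConj_iff.2 ⟨e, rfl⟩) fun h => hne (mul_inv_eq_iff_eq_mul.1 h)
  -- the bound
  let b : ↥(P : Subgroup G) → ℕ := fun x => if (x : G) ∈ C then 6 else if (x : G) ∈ E then 2 else 3
  have hb : ∀ x : ↥(P : Subgroup G), wt (mult P x) ≤ b x := by
    intro x
    have h1 := hm3 x
    have h2 := hm2 x x.2
    have h0 : 0 < mult P (x : G) := Nat.card_pos_iff.2 ⟨⟨⟨x, IsConj.refl _⟩⟩, inferInstance⟩
    simp only [b, wt]
    by_cases hxC : (x : G) ∈ C
    · rw [if_pos hxC]; split_ifs <;> omega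
    · rw [if_neg hxC]
      by_cases hxE : (x : G) ∈ E
      · have := h1 hxE hxC
        rw [if_pos hxE]; split_ifs <;> omega
      · have := h2 hxE
        rw [if_neg hxE]; split_ifs <;> omega
  have hbsum : ∑ x, b x + Nat.card E = 3 * Nat.card (P : Subgroup G) + 4 * Nat.card C := by
    have hEc : ∀ H : Subgroup G, H ≤ (P : Subgroup G) →
        ∑ x : ↥(P : Subgroup G), (if (x : G) ∈ H then 1 else 0) = Nat.card H := by
      intro H hH
      rw [Finset.sum_boole, Nat.cast_id, ← Nat.card_congr (subgroupOfEquivOfLe hH).toEquiv,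
        ← Nat.card_eq_finsetCard]
      exact Nat.card_congr (Equiv.subtypeEquivRight fun x => by simp [mem_subgroupOf])
    rw [← hEc E hEP, ← hEc C (hCE.trans hEP), Nat.card_eq_fintype_card, ← Finset.sum_add_distrib,
      Fintype.card_eq_sum_ones, Finset.mul_sum, Finset.mul_sum, ← Finset.sum_add_distrib]
    refine Finset.sum_congr rfl fun x _ => ?_
    have := @hCE x
    simp only [b]
    split_ifs <;> simp_all
  obtain ⟨hle, heq⟩ := six_classes_le P
  have h6 : 6 * Nat.card {c : ConjClasses G // ∀ x ∈ c.carrier, ∃ k : ℕ, orderOf x = 2 ^ k} =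
      3 * Nat.card (P : Subgroup G) := by omega
  have hsl : ∑ x : ↥(P : Subgroup G), wt (mult P x) ≤ ∑ x, b x := Finset.sum_le_sum fun x _ => hb x
  have hE4 : Nat.card E ≤ 4 * Nat.card C := by omega
  -- the index is exactly four
  have hcoset : ∀ x ∈ E, (g * x * g⁻¹) * x⁻¹ ∈ C → g * x * g⁻¹ = x := by
    intro x hx hd
    set d := g * x * g⁻¹ * x⁻¹ with hd'
    obtain ⟨hdE, hdg⟩ := (hC d).1 hd
    have key : ∀ n : ℕ, g ^ n * x * (g ^ n)⁻¹ = d ^ n * x := by
      intro n
      induction n with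
      | zero => simp
      | succ n ih =>
        calc g ^ (n + 1) * x * (g ^ (n + 1))⁻¹ = g ^ n * (g * x * g⁻¹) * (g ^ n)⁻¹ := by
              rw [pow_succ]; group
          _ = g ^ n * (d * x) * (g ^ n)⁻¹ := by rw [hd']; group
          _ = (g ^ n * d * (g ^ n)⁻¹) * (g ^ n * x * (g ^ n)⁻¹) := by group
          _ = d * (d ^ n * x) := by rw [hfix d n hdg, ih]
          _ = d ^ (n + 1) * x := by rw [pow_succ' d n]; exact (mul_assoc _ _ _).symm
    have h1 := key (orderOf g)
    rw [pow_orderOf_eq_one, one_mul, inv_one, mul_one, right_eq_mul] at h1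
    obtain ⟨k, hk⟩ := P.2 ⟨d, hEP hdE⟩
    have hk' : d ^ 2 ^ k = 1 := by simpa using congrArg Subtype.val hk
    have : d = 1 := orderOf_eq_one_iff.1 (Nat.eq_one_of_dvd_coprimes
      (Nat.Coprime.pow_right k hgo) (orderOf_dvd_of_pow_eq_one h1) (orderOf_dvd_of_pow_eq_one hk'))
    exact mul_inv_eq_one.1 this
  have hidx : C.relIndex E = 4 := by
    obtain ⟨x, hx, hne⟩ := hgE
    have hmul : C.relIndex E * Nat.card C = Nat.card E := by
      rw [← relIndex_bot_left C, ← relIndex_bot_left E, mul_comm, relIndex_mul_relIndex _ _ _ bot_le hCE]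
    have hle4 : C.relIndex E ≤ 4 := Nat.le_of_mul_le_mul_right (show C.relIndex E * Nat.card C ≤ 4 * Nat.card C by omega) Nat.card_pos
    obtain ⟨k, hk⟩ := (P.2.to_le hEP).index (C.subgroupOf E)
    have hk' : C.relIndex E = 2 ^ k := hk
    have hk2 : k ≤ 2 := by
      by_contra h
      have := Nat.pow_le_pow_right (show 0 < 2 by norm_num) (show 3 ≤ k by omega)
      omega
    interval_cases k
    · exfalso
      exact hne ((hC x).1 (relIndex_eq_one.1 (by simpa using hk') hx)).2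
    · exfalso
      refine hne (hcoset x hx ?_)
      have h2 : (C.subgroupOf E).index = 2 := by simpa [relIndex] using hk'
      have hxC : x ∉ C := fun h => hne ((hC x).1 h).2
      have hgxC : g * x * g⁻¹ ∉ C := by
        intro h
        have h' := ((hC _).1 h).2
        have : g * x * g⁻¹ = x := by simpa using h'
        exact hne this
      have := (Subgroup.mul_mem_iff_of_index_two h2 (a := ⟨g * x * g⁻¹, hgn x hx⟩)
        (b := (⟨x, hx⟩ : E)⁻¹)).2 (by simp [mem_subgroupOf, hxC, hgxC])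
      simpa [mem_subgroupOf] using this
    · simpa using hk'
  have hEC : Nat.card E = 4 * Nat.card C := by
    rw [← relIndex_bot_left C, ← relIndex_bot_left E, ← hidx, mul_comm,
      relIndex_mul_relIndex _ _ _ bot_le hCE]
  -- exact multiplicities
  have hsum : ∑ x : ↥(P : Subgroup G), wt (mult P x) = ∑ x, b x := by omega
  have hwb : ∀ x : ↥(P : Subgroup G), wt (mult P x) = b x := fun x =>
    (Finset.sum_eq_sum_iff_of_le fun y _ => hb y).1 hsum x (Finset.mem_univ x)
  have hex := heq (by omega)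
  have hmC : ∀ x ∈ C, mult P x = 1 := by
    intro x hx
    have h1 := hwb ⟨x, hEP (hCE hx)⟩
    have h2 := hex ⟨x, hEP (hCE hx)⟩
    simp only [b, hx, if_true] at h1
    dsimp only at h1 h2
    rw [h1] at h2
    omega
  have hmE : ∀ x ∈ E, x ∉ C → mult P x = 3 := by
    intro x hx hxC
    have h1 := hwb ⟨x, hEP hx⟩
    have h2 := hex ⟨x, hEP hx⟩
    simp only [b, hx, hxC, if_true, if_false] at h1
    dsimp only at h1 h2
    rw [h1] at h2
    omega
  have hmP : ∀ x ∈ (P : Subgroup G), x ∉ E → mult P x = 2 := by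
    intro x hx hxE
    have h1 := hwb ⟨x, hx⟩
    have h2 := hex ⟨x, hx⟩
    simp only [b, hxE, show x ∉ C from fun h => hxE (hCE h), if_false] at h1
    dsimp only at h1 h2
    rw [h1] at h2
    omega
  have hmem : ∀ x ∈ E, ∀ y ∈ (P : Subgroup G), IsConj x y → y ∈ E := by
    intro x hx y hy hxy
    by_contra hyE
    have h1 := hmP y hy hyE
    rw [← mult_eq_of_conj P hxy] at h1
    by_cases hxC : x ∈ C
    · rw [hmC x hxC] at h1; omega
    · rw [hmE x hx hxC] at h1; omega
  have hnorm : ∀ p ∈ (P : Subgroup G), ∀ e ∈ E, p * e * p⁻¹ ∈ E := fun p hp e he =>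
    hmem e he _ (mul_mem (mul_mem hp (hEP he)) (inv_mem hp)) (isConj_iff.2 ⟨p, rfl⟩)
  -- `C` is the centre
  have hCz : C = Subgroup.center G := by
    refine le_antisymm (fun x hx => ?_) (fun z hz => ?_)
    · rw [mem_center_iff]
      intro a
      obtain ⟨k, hk⟩ := P.2 ⟨x, hEP (hCE hx)⟩
      have h := CfsgLib.Involutions.WCC.commutator_mem_core k G P x (hEP (hCE hx))
        (by simpa using congrArg Subtype.val hk) (fun i b hb => eq_of_mult_one P hb
          (hEP (hCE (pow_mem hx i))) (isConj_iff.2 ⟨b, rfl⟩) (hmC _ (pow_mem hx i))) a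
      rw [hO, mem_bot, mul_inv_eq_one, mul_inv_eq_iff_eq_mul] at h
      exact h
    · have hzP := center_le_sylow P hO hz
      have hone : mult P z = 1 := by
        rw [mult, Nat.card_eq_one_iff_unique]
        refine ⟨⟨fun u v => ?_⟩, ⟨⟨⟨z, hzP⟩, IsConj.refl z⟩⟩⟩
        have key : ∀ w : {y : (P : Subgroup G) // IsConj z (y : G)}, ((w.1 : (P : Subgroup G)) : G) = z := by
          intro w
          obtain ⟨d, hd⟩ := isConj_iff.1 w.2
          rw [← hd, mem_center_iff.1 hz d, mul_inv_cancel_right]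
        exact Subtype.ext (Subtype.ext ((key u).trans (key v).symm))
      by_contra hzC
      by_cases hzE : z ∈ E
      · rw [hmE z hzE hzC] at hone; omega
      · rw [hmP z hzP hzE] at hone; omega
  have horb : ∀ x ∈ E, x ∉ C → ∀ y ∈ (P : Subgroup G), IsConj x y → y ∈ orb x := by
    intro x hx hxC y hy hxy
    by_contra hne
    have := hinj x hx (insert y (orb x)) (fun z hz => by
      rcases Finset.mem_insert.1 hz with rfl | hz
      exacts [⟨hy, hxy⟩, horbsub x hx z hz])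
    rw [Finset.card_insert_of_notMem hne, horbcard x hx hxC, hmE x hx hxC] at this
    omega
  -- the quotient `E / C`
  have hCn : (C.subgroupOf E).Normal := ⟨fun n hn e => by
    rw [mem_subgroupOf, hCz] at hn ⊢
    simp only [coe_mul, coe_inv]
    rw [mem_center_iff.1 hn (e : G), mul_inv_cancel_right]
    exact hn⟩
  have hq4 : Nat.card (E ⧸ C.subgroupOf E) = 4 := hidx
  set π := QuotientGroup.mk' (C.subgroupOf E) with hπ
  have hπC : ∀ e : E, π e = 1 ↔ (e : G) ∈ C := fun e => by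
    rw [hπ, QuotientGroup.mk'_apply, QuotientGroup.eq_one_iff, mem_subgroupOf]
  have hcong : ∀ u v : G, (hu : u ∈ E) → (hv : v ∈ E) →
      (π ⟨u, hu⟩ = π ⟨v, hv⟩ ↔ u * v⁻¹ ∈ C) := fun u v hu hv => by
    rw [← mul_inv_eq_one, ← map_inv, ← map_mul, hπC]
    simp
  obtain ⟨x, hx, hxC, hxx⟩ : ∃ x ∈ E, x ∉ C ∧ x * x ∈ C := by
    obtain ⟨x, hx, hne⟩ := hgE
    have hxC : x ∉ C := fun h => hne ((hC x).1 h).2
    by_cases hxx : x * x ∈ C
    · exact ⟨x, hx, hxC, hxx⟩
    · refine ⟨x * x, mul_mem hx hx, hxx, ?_⟩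
      have h4 : (π ⟨x, hx⟩) ^ 4 = 1 := by rw [← hq4]; exact pow_card_eq_one'
      rw [← map_pow, hπC] at h4
      simpa [pow_succ, mul_assoc] using h4
  set x1 := g * x * g⁻¹ with hx1
  set x2 := g * x1 * g⁻¹ with hx2
  have hx1E : x1 ∈ E := hgn x hx
  have hx2E : x2 ∈ E := hgn x1 hx1E
  set A := π ⟨x, hx⟩ with hA
  set B := π ⟨x1, hx1E⟩ with hB
  have hgC : ∀ z ∈ C, g * z * g⁻¹ ∈ C := fun z hz => by rwa [((hC z).1 hz).2]
  have hA1 : A ≠ 1 := fun h => hxC ((hπC ⟨x, hx⟩).1 h)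
  have hx1C : x1 ∉ C := fun h => hxC (by
    have := ((hC _).1 h).2
    rw [hx1, mul_left_inj, mul_right_inj] at this
    exact (hC x).2 ⟨hx, this⟩)
  have hB1 : B ≠ 1 := fun h => hx1C ((hπC ⟨x1, hx1E⟩).1 h)
  have hne : g * x * g⁻¹ ≠ x := (hdist x hx hxC).1
  have hBA : B ≠ A := fun h => hne (hcoset x hx ((hcong _ _ _ _).1 h))
  have hAA : A * A = 1 := by rw [hA, ← map_mul, hπC]; exact hxx
  have hBB : B * B = 1 := by
    rw [hB, ← map_mul, hπC]
    show x1 * x1 ∈ C
    rw [show x1 * x1 = g * (x * x) * g⁻¹ by rw [hx1]; group]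
    exact hgC _ hxx
  letI : Fintype (E ⧸ C.subgroupOf E) := Fintype.ofFinite _
  have h4th : ∀ u v : E ⧸ C.subgroupOf E, u ≠ 1 → u ≠ A → u ≠ B → v ≠ 1 → v ≠ A → v ≠ B → u = v := by
    intro u v u1 uA uB v1 vA vB
    by_contra huv
    have : ({1, A, B, u, v} : Finset _).card ≤ 4 := by
      refine (Finset.card_le_univ _).trans ?_
      rw [← Nat.card_eq_fintype_card, hq4]
    rw [Finset.card_insert_of_notMem, Finset.card_insert_of_notMem, Finset.card_insert_of_notMem,
      Finset.card_insert_of_notMem, Finset.card_singleton] at this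
    · omega
    · simp [huv]
    · simp [uB.symm, vB.symm]
    · simp [hBA.symm, uA.symm, vA.symm]
    · simp [hA1.symm, hB1.symm, u1.symm, v1.symm]
  have hAB : A * B ≠ 1 ∧ A * B ≠ A ∧ A * B ≠ B := by
    refine ⟨fun h => hBA ?_, fun h => hB1 (mul_eq_left.1 h), fun h => hA1 (mul_eq_right.1 h)⟩
    calc B = A * A * B := by rw [hAA, one_mul]
      _ = A := by rw [mul_assoc, h, mul_one]
  have hcomm : A * B = B * A := by
    refine h4th _ _ hAB.1 hAB.2.1 hAB.2.2 (fun h => hBA ?_) (fun h => hB1 (mul_eq_right.1 h))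
      (fun h => hA1 (mul_eq_left.1 h))
    calc B = B * (A * A) := by rw [hAA, mul_one]
      _ = A := by rw [← mul_assoc, h, one_mul]
  have hfour : ∀ u : E ⧸ C.subgroupOf E, u = 1 ∨ u = A ∨ u = B ∨ u = A * B := by
    intro u
    by_contra h
    push_neg at h
    exact h.2.2.2 (h4th _ _ h.1 h.2.1 h.2.2.1 hAB.1 hAB.2.1 hAB.2.2)
  have hsq : ∀ e ∈ E, e * e ∈ C := by
    intro e he
    have : π ⟨e, he⟩ * π ⟨e, he⟩ = 1 := by
      rcases hfour (π ⟨e, he⟩) with h | h | h | h <;> rw [h]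
      · exact one_mul 1
      · exact hAA
      · exact hBB
      · rw [mul_assoc, ← mul_assoc B, ← hcomm, mul_assoc A B B, hBB, mul_one, hAA]
    rw [← map_mul, hπC] at this
    exact this
  have hker : ∀ p ∈ (P : Subgroup G), p * x * p⁻¹ = x → p * x1 * p⁻¹ = x1 → p ∈ E := by
    intro p hp hpx hpx1
    refine hcenE p hp (mem_centralizer_iff.2 fun e he => ?_)
    have cX : Commute p x := mul_inv_eq_iff_eq_mul.1 hpx
    have cY : Commute p x1 := mul_inv_eq_iff_eq_mul.1 hpx1
    have cC : ∀ z ∈ C, Commute p z := fun z hz => mem_center_iff.1 (hCz ▸ hz) p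
    have key : ∀ w : G, (hw : w ∈ E) → Commute p w → π ⟨e, he⟩ = π ⟨w, hw⟩ → e * p = p * e := by
      intro w hw hcw h
      have := ((cC _ ((hcong _ _ _ _).1 h)).mul_right hcw)
      rw [inv_mul_cancel_right] at this
      exact this.eq.symm
    rcases hfour (π ⟨e, he⟩) with h | h | h | h
    · exact key 1 (one_mem _) (Commute.one_right _) (h.trans (map_one π).symm)
    · exact key x hx cX h
    · exact key x1 hx1E cY h
    · exact key (x * x1) (mul_mem hx hx1E) (cX.mul_right cY) (h.trans (map_mul π ⟨x, hx⟩ ⟨x1, hx1E⟩).symm)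
  have hx2A : π ⟨x2, hx2E⟩ ≠ A := by
    intro h
    have h1 : π ⟨x * x1, mul_mem hx hx1E⟩ = π ⟨x1 * x2, mul_mem hx1E hx2E⟩ := by
      rw [show (⟨x * x1, mul_mem hx hx1E⟩ : E) = ⟨x, hx⟩ * ⟨x1, hx1E⟩ from rfl,
        show (⟨x1 * x2, mul_mem hx1E hx2E⟩ : E) = ⟨x1, hx1E⟩ * ⟨x2, hx2E⟩ from rfl, map_mul, map_mul,
        ← hA, ← hB, h, hcomm]
    have h2 : g * (x * x1) * g⁻¹ = x * x1 := by
      refine hcoset _ (mul_mem hx hx1E) ?_
      rw [show g * (x * x1) * g⁻¹ = x1 * x2 by rw [hx2, hx1]; group]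
      exact (hcong _ _ _ _).1 h1.symm
    have h3 : π ⟨x * x1, mul_mem hx hx1E⟩ = 1 := (hπC _).2 ((hC _).2 ⟨mul_mem hx hx1E, h2⟩)
    exact hAB.1 ((map_mul π ⟨x, hx⟩ ⟨x1, hx1E⟩).symm.trans h3)
  have hx2B : π ⟨x2, hx2E⟩ ≠ B := fun h =>
    (hdist x hx hxC).2.2 (hcoset x1 hx1E ((hcong _ _ _ _).1 h))
  -- the action on the orbit
  let O : Type u := {y : G // y ∈ orb x}
  have hact : ∀ p ∈ (P : Subgroup G), ∀ y ∈ orb x, p * y * p⁻¹ ∈ orb x := by
    intro p hp y hy
    obtain ⟨hyP, hxy⟩ := horbsub x hx y hy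
    exact horb x hx hxC _ (mul_mem (mul_mem hp hyP) (inv_mem hp)) (hxy.trans (isConj_iff.2 ⟨p, rfl⟩))
  let toP : ↥(P : Subgroup G) → Equiv.Perm O := fun p =>
    { toFun := fun y => ⟨p * y.1 * (p : G)⁻¹, hact p p.2 y.1 y.2⟩
      invFun := fun y => ⟨(p : G)⁻¹ * y.1 * p, by simpa using hact _ (inv_mem p.2) y.1 y.2⟩
      left_inv := fun y => Subtype.ext (by group)
      right_inv := fun y => Subtype.ext (by group) }
  let ψ : ↥(P : Subgroup G) →* Equiv.Perm O :=
    MonoidHom.mk' toP fun p q => Equiv.ext fun y => Subtype.ext (by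
      simp [toP, mul_assoc])
  have hψker : ψ.ker ≤ E.subgroupOf (P : Subgroup G) := by
    intro p hp
    rw [mem_subgroupOf]
    have hev : ∀ y (hy : y ∈ orb x), (p : G) * y * (p : G)⁻¹ = y := fun y hy =>
      congrArg (fun f : Equiv.Perm O => (f ⟨y, hy⟩).1) hp
    exact hker p p.2 (hev x (by simp [orb])) (hev x1 (by simp [orb, hx1]))
  have hidx2 : (E.subgroupOf (P : Subgroup G)).index ∣ 2 := by
    have h6 : (E.subgroupOf (P : Subgroup G)).index ∣ 6 := by
      refine (index_dvd_of_le hψker).trans ?_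
      rw [index_ker]
      refine (card_subgroup_dvd_card ψ.range).trans ?_
      rw [Nat.card_perm, show Nat.card O = 3 by rw [Nat.card_eq_finsetCard, horbcard x hx hxC]]
      decide
    obtain ⟨k, hk⟩ := P.2.index (E.subgroupOf (P : Subgroup G))
    rw [hk] at h6 ⊢
    rcases Nat.lt_or_ge k 2 with h | h
    · interval_cases k <;> norm_num
    · exact absurd (((pow_dvd_pow 2 h).trans h6)) (by norm_num)
  have hcardP : Nat.card (P : Subgroup G) = (E.subgroupOf (P : Subgroup G)).index * Nat.card E := by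
    rw [← (E.subgroupOf (P : Subgroup G)).card_mul_index, Nat.card_congr (subgroupOfEquivOfLe hEP).toEquiv,
      mul_comm]
  refine ⟨E, ⟨hEP, hCz ▸ hCE, hCz ▸ hEC, hnorm, ?_, fun e he => hCz ▸ hsq e he, ?_, ?_, ?_⟩⟩
  · rcases (Nat.dvd_prime Nat.prime_two).1 hidx2 with h | h
    · left; rw [hcardP, h, one_mul]
    · right; rw [hcardP, h]
  · intro p hp hpE
    by_contra hall
    push_neg at hall
    have hfx : ∀ y ∈ E, p * y * p⁻¹ * y⁻¹ ∈ C := fun y hy => hCz.symm ▸ hall y hy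
    have hd3 : ∀ u v, u ∈ orb x → v ∈ orb x → (hu : u ∈ E) → (hv : v ∈ E) →
        π ⟨u, hu⟩ = π ⟨v, hv⟩ → u = v := by
      intro u v hu' hv' hu hv he
      simp only [orb, Finset.mem_insert, Finset.mem_singleton, ← hx1, ← hx2] at hu' hv'
      rcases hu' with hu' | hu' | hu' <;> rcases hv' with hv' | hv' | hv' <;>
        first
        | exact hu'.trans hv'.symm
        | (exfalso
           simp only [hu', hv'] at he
           first
           | exact hBA he | exact hBA he.symm | exact hx2A he | exact hx2A he.symm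
           | exact hx2B he | exact hx2B he.symm)
    have key : ∀ y, (hy : y ∈ orb x) → (hyE : y ∈ E) → p * y * p⁻¹ = y := fun y hy hyE =>
      hd3 _ _ (hact p hp y hy) hy (hnorm p hp y hyE) hyE ((hcong _ _ _ _).2 (hfx y hyE))
    exact hpE (hker p hp (key x (by simp [orb]) hx) (key x1 (by simp [orb, hx1]) hx1E))
  · rw [inf_comm, ← CfsgLib.Transfer.focalSubgroup_eq_of_coprime (P : Subgroup G) (by
      obtain ⟨k, hk⟩ := P.2.exists_card_eq
      have hd : (⁅(P : Subgroup G), (P : Subgroup G)⁆.relIndex (P : Subgroup G)) ∣ 2 ^ k :=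
        hk ▸ relIndex_dvd_card _ _
      refine Nat.Coprime.coprime_dvd_right hd (Nat.Coprime.pow_right k ?_)
      exact ((Nat.prime_two.coprime_iff_not_dvd).2 P.not_dvd_index).symm),
      focalSubgroup_def, closure_le]
    rintro z ⟨hz, y, hy, u, rfl⟩
    rw [SetLike.mem_coe, show ⁅y, u⁆ = y * (u * y⁻¹ * u⁻¹) by
      rw [commutatorElement_def]; group]
    have hw : u * y⁻¹ * u⁻¹ ∈ (P : Subgroup G) := by
      have := mul_mem (inv_mem hy) hz
      simpa [commutatorElement_def, mul_assoc] using this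
    have hyw : IsConj y⁻¹ (u * y⁻¹ * u⁻¹) := isConj_iff.2 ⟨u, rfl⟩
    by_cases hyE : y ∈ E
    · exact mul_mem hyE (hmem _ (inv_mem hyE) _ hw hyw)
    · have hwE : u * y⁻¹ * u⁻¹ ∉ E := fun h =>
        hyE (inv_mem_iff.1 (hmem _ h _ (inv_mem hy) hyw.symm))
      have h2 : (E.subgroupOf (P : Subgroup G)).index = 2 :=
        ((Nat.dvd_prime Nat.prime_two).1 hidx2).resolve_left fun h => hyE (by
          have := index_eq_one.1 h
          exact subgroupOf_eq_top.1 this hy)
      exact mem_subgroupOf.1 ((Subgroup.mul_mem_iff_of_index_two h2 (a := ⟨y, hy⟩) (b := ⟨_, hw⟩)).2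
        (by simp only [mem_subgroupOf]; exact iff_of_false hyE hwE))
  · exact ⟨g, fun hz => hne (by rw [← mem_center_iff.1 hz x, mul_inv_cancel_right]), hgo⟩

end Count
end CfsgLib.TwoClasses78
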