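import Cfsg.Agent.Lib.TwoClasses78.Count
import Cfsg.Agent.Lib.GW.Main
import Cfsg.Agent.Lib.PSL2.Recognition
import Cfsg.Agent.Lib.PSL2.Basic

/-!
Groups with exactly half as many classes of 2-elements as the order of a Sylow 2-subgroup: the
identification of the central quotient, given the Gorenstein–Walter theorem.
-/

set_option autoImplicit false
set_option linter.all false

namespace CfsgLib.TwoClasses78

open Subgroup
open scoped commutatorElement

universe u

variable {G : Type u} [Group G] [Finite G]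

theorem card_map_mul {N : Subgroup G} [N.Normal] (H : Subgroup G) (hN : N ≤ H) :
    Nat.card (H.map (QuotientGroup.mk' N)) * Nat.card N = Nat.card H := by
  let f := (QuotientGroup.mk' N).comp H.subtype
  have hr : f.range = H.map (QuotientGroup.mk' N) := by
    rw [MonoidHom.range_comp, range_subtype]
  have hk : f.ker = N.subgroupOf H := by
    rw [← MonoidHom.comap_ker, QuotientGroup.ker_mk']; rfl
  rw [← hr, ← index_ker, hk, ← Nat.card_congr (subgroupOfEquivOfLe hN).toEquiv, mul_comm,
    card_mul_index]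

/-- A group of order four or eight with a suitable four-subgroup is dihedral. -/
theorem dihedral_of_four {H : Type u} [Group H] [Finite H] (V : Subgroup H) (hV : Nat.card V = 4)
    (hsq : ∀ v ∈ V, v * v = 1) (hidx : V.index = 1 ∨ V.index = 2)
    (hmv : ∀ h ∉ V, ∃ v ∈ V, h * v ≠ v * h) :
    ∃ n : ℕ, Nonempty (H ≃* DihedralGroup n) := by
  haveI : Fact (Nat.Prime 2) := ⟨Nat.prime_two⟩
  have hH : Nat.card H = 4 * V.index := by rw [← hV, card_mul_index]
  rcases hidx with h1 | h2
  · rw [index_eq_one] at h1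
    haveI : Nontrivial V := Finite.one_lt_card_iff_nontrivial.1 (by omega)
    obtain ⟨⟨v, hv⟩, hv1⟩ := exists_ne (1 : V)
    have hvo : orderOf v = 2 := orderOf_eq_prime (by rw [pow_two, hsq v hv])
      fun h => hv1 (Subtype.ext h)
    have hc : (zpowers v).index = 2 := by
      have h3 := (zpowers v).card_mul_index
      have h4 : Nat.card H = 4 := by rw [← hV, h1, card_top]
      rw [Nat.card_zpowers, hvo, h4] at h3
      omega
    exact ⟨_, CfsgLib.PSL2.nonempty_mulEquiv_dihedral _ hc fun g _ => hsq g (h1 ▸ mem_top g)⟩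
  · haveI := normal_of_index_eq_two h2
    obtain ⟨r, hr, hrr⟩ : ∃ r ∉ V, r * r ≠ 1 := by
      by_contra hall
      push_neg at hall
      have hne : V ≠ ⊤ := fun h => by rw [h, index_top] at h2; omega
      obtain ⟨h, hh⟩ : ∃ h, h ∉ V := by
        by_contra hc
        push_neg at hc
        exact hne (eq_top_iff.2 fun x _ => hc x)
      obtain ⟨v, hv, hne'⟩ := hmv h hh
      have e1 := hall (h * v) fun hc => hh ((V.mul_mem_cancel_right hv).1 hc)
      have e2 := hall h hh
      refine hne' ?_
      have i1 : (h * v)⁻¹ = h * v := inv_eq_of_mul_eq_one_right e1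
      have i2 : h⁻¹ = h := inv_eq_of_mul_eq_one_right e2
      have i3 : v⁻¹ = v := inv_eq_of_mul_eq_one_right (hsq v hv)
      rw [← i1, mul_inv_rev, i2, i3]
    have hr2 : r * r ∈ V := mul_self_mem_of_index_two h2 r
    have hr4 : orderOf r = 4 := by
      have := orderOf_eq_prime_pow (p := 2) (n := 1) (x := r) (by rw [pow_one, pow_two]; exact hrr)
        (by rw [show r ^ 2 ^ (1 + 1) = r * r * (r * r) by rw [mul_assoc]; simp [pow_succ, mul_assoc]]
            exact hsq _ hr2)
      simpa using this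
    have hc : (zpowers r).index = 2 := by
      have h3 := (zpowers r).card_mul_index
      rw [Nat.card_zpowers, hr4, hH, h2] at h3
      omega
    refine ⟨_, CfsgLib.PSL2.nonempty_mulEquiv_dihedral _ hc fun g hg => ?_⟩
    by_cases hgV : g ∈ V
    · exact hsq g hgV
    set z := r * r with hz
    set v := r⁻¹ * g with hv'
    have hvV : v ∈ V := by
      rw [hv', mul_mem_iff_of_index_two h2]
      exact iff_of_false (fun h => hr (inv_mem_iff.1 h)) hgV
    have hv1 : v ≠ 1 := fun h => hg (by
      rw [show g = r by rw [← mul_inv_cancel_left r g, ← hv', h, mul_one]]; exact mem_zpowers r)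
    have hvz : v ≠ z := fun h => hg (by
      rw [show g = r * z by rw [← h, hv', mul_inv_cancel_left]]
      exact mul_mem (mem_zpowers r) (mul_mem (mem_zpowers r) (mem_zpowers r)))
    have hi : ∀ a ∈ V, a⁻¹ = a := fun a ha => inv_eq_of_mul_eq_one_right (hsq a ha)
    have hcom : ∀ a ∈ V, ∀ b ∈ V, a * b = b * a := by
      intro a ha b hb
      rw [← hi _ (mul_mem ha hb), mul_inv_rev, hi a ha, hi b hb]
    classical
    letI : Fintype V := Fintype.ofFinite V
    have hall : ∀ a ∈ V, a = 1 ∨ a = z ∨ a = v ∨ a = v * z := by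
      intro a ha
      by_contra h
      push_neg at h
      obtain ⟨a1, az, av, avz⟩ := h
      have hle : ({1, ⟨z, hr2⟩, ⟨v, hvV⟩, ⟨v * z, mul_mem hvV hr2⟩, ⟨a, ha⟩} : Finset V).card ≤ 4 := by
        refine (Finset.card_le_univ _).trans ?_
        rw [← Nat.card_eq_fintype_card, hV]
      have d1 : v * z ≠ 1 := fun h => hvz (by rw [← hi z hr2]; exact eq_inv_of_mul_eq_one_left h)
      have d2 : v * z ≠ z := fun h => hv1 (mul_eq_right.1 h)
      have d3 : v * z ≠ v := fun h => hrr (mul_eq_left.1 h)
      rw [Finset.card_insert_of_notMem, Finset.card_insert_of_notMem, Finset.card_insert_of_notMem,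
        Finset.card_insert_of_notMem, Finset.card_singleton] at hle
      · omega
      · simp [Subtype.ext_iff, avz.symm]
      · simp [Subtype.ext_iff, av.symm, d3.symm]
      · simp [Subtype.ext_iff, az.symm, hvz.symm, d2.symm]
      · simp [Subtype.ext_iff, a1.symm, hrr.symm, hv1.symm, d1.symm]
    have hconj : r * v * r⁻¹ = v * z := by
      have hm : r * v * r⁻¹ ∈ V := Subgroup.Normal.conj_mem inferInstance v hvV r
      rcases hall _ hm with h | h | h | h
      · exact absurd (conj_eq_one_iff.1 h) hv1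
      · exact absurd (mul_left_cancel (mul_right_cancel (h.trans
          (by rw [hz]; group : z = r * z * r⁻¹)))) hvz
      · exfalso
        obtain ⟨a, ha, hne⟩ := hmv r hr
        have c1 : Commute r v := mul_inv_eq_iff_eq_mul.1 h
        have c2 : Commute r z := (Commute.refl r).mul_right (Commute.refl r)
        rcases hall a ha with rfl | rfl | rfl | rfl
        · exact hne (Commute.one_right r).eq
        · exact hne c2.eq
        · exact hne c1.eq
        · exact hne (c1.mul_right c2).eq
      · exact h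
    calc g * g = (r * v * r⁻¹) * z * v := by rw [hz, hv']; group
      _ = v * z * z * v := by rw [hconj]
      _ = 1 := by rw [mul_assoc v z z, hsq z hr2, mul_one, hsq v hvV]

theorem main
    (hS : ∀ (G : Type u) [Group G] [Finite G], CfsgLib.GW.Setup G → CfsgLib.GW.IsPSLOrA7 G)
    (P : Sylow 2 G) (hO : Cfsg.pPrimeCore 2 G = ⊥)
    (hk : 2 * Nat.card {c : ConjClasses G // ∀ x ∈ c.carrier, ∃ k : ℕ, orderOf x = 2 ^ k} =
      Nat.card ↥(P : Subgroup G)) :
    Nonempty (G ⧸ Subgroup.center G ≃* ↥(alternatingGroup (Fin 4))) ∨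
      Nonempty (G ⧸ Subgroup.center G ≃* Equiv.Perm (Fin 4)) ∨
    ∃ S : Subgroup (G ⧸ Subgroup.center G), S.Normal ∧ IsSimpleGroup ↥S ∧ ¬ IsMulCommutative ↥S ∧
      Subgroup.centralizer (S : Set (G ⧸ Subgroup.center G)) = ⊥ ∧
      ∃ (F : Type) (_ : Field F) (_ : Fintype F), 3 < Fintype.card F ∧
        (Fintype.card F % 8 = 3 ∨ Fintype.card F % 8 = 5) ∧
        Nonempty (↥S ≃* Matrix.ProjectiveSpecialLinearGroup (Fin 2) F) := by
  classical
  haveI : Fact (Nat.Prime 2) := ⟨Nat.prime_two⟩
  obtain ⟨E, hE⟩ := shape P hO hk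
  set Z := Subgroup.center G with hZ
  set π := QuotientGroup.mk' Z with hπ
  have hπs : Function.Surjective π := QuotientGroup.mk'_surjective Z
  have hπ1 : ∀ x, π x = 1 ↔ x ∈ Z := fun x => QuotientGroup.eq_one_iff x
  set S' := P.mapSurjective hπs with hS'
  set Pb := (P : Subgroup G).map π with hPb
  have hS'c : (S' : Subgroup (G ⧸ Z)) = Pb := Sylow.coe_mapSurjective _ _
  set Eb := E.map π with hEb
  have hEb4 : Nat.card Eb = 4 := by
    have := card_map_mul E hE.center_le
    rw [hE.card] at this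
    exact Nat.eq_of_mul_eq_mul_right Nat.card_pos this
  have hEbP : Eb ≤ Pb := map_mono hE.le
  have hZP : Z ≤ (P : Subgroup G) := hE.center_le.trans hE.le
  have hPbcard : Nat.card Pb = 4 ∨ Nat.card Pb = 8 := by
    have h1 := card_map_mul (P : Subgroup G) hZP
    rcases hE.index with h | h <;> rw [h, hE.card] at h1
    · exact Or.inl (Nat.eq_of_mul_eq_mul_right Nat.card_pos h1)
    · exact Or.inr (Nat.eq_of_mul_eq_mul_right Nat.card_pos (h1.trans (by ring)))
  -- the Sylow 2-subgroup is dihedral
  obtain ⟨n, ⟨e⟩⟩ : ∃ n : ℕ, Nonempty ((S' : Subgroup (G ⧸ Z)) ≃* DihedralGroup n) := by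
    obtain ⟨n, ⟨e⟩⟩ := dihedral_of_four (H := Pb) (Eb.subgroupOf Pb)
      (by rw [Nat.card_congr (subgroupOfEquivOfLe hEbP).toEquiv, hEb4])
      (by
        rintro ⟨v, hv⟩ hvE
        rw [mem_subgroupOf] at hvE
        obtain ⟨a, ha, rfl⟩ := hvE
        exact Subtype.ext ((map_mul π a a).symm.trans ((hπ1 _).2 (hE.sq a ha))))
      (by
        have h1 := (Eb.subgroupOf Pb).card_mul_index
        rw [Nat.card_congr (subgroupOfEquivOfLe hEbP).toEquiv, hEb4] at h1
        rcases hPbcard with h | h <;> omega)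
      (by
        rintro ⟨w, hw⟩ hwE
        obtain ⟨p, hp, rfl⟩ := hw
        have hpE : p ∉ E := fun h => hwE (mem_subgroupOf.2 ⟨p, h, rfl⟩)
        obtain ⟨a, ha, hne⟩ := hE.moves p hp hpE
        refine ⟨⟨π a, hEbP (mem_map_of_mem π ha)⟩, mem_subgroupOf.2 (mem_map_of_mem π ha), ?_⟩
        intro hc
        refine hne ((hπ1 _).1 ?_)
        have : π p * π a = π a * π p := congrArg Subtype.val hc
        rw [map_mul, map_mul, map_mul, map_inv, map_inv, this, mul_inv_cancel_right, mul_inv_cancel])
    exact ⟨n, ⟨(MulEquiv.subgroupCongr hS'c).trans e⟩⟩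
  -- trivial odd core
  have hOb : Cfsg.oddCore (G ⧸ Z) = ⊥ := by
    have hNn : (Cfsg.oddCore (G ⧸ Z)).Normal := inferInstance
    set M := Cfsg.oddCore (G ⧸ Z)
    set N := M.comap π with hN
    have hMo : Odd (Nat.card M) := Nat.coprime_two_right.1 CfsgLib.PCore.pPrimeCore_coprime
    obtain ⟨j, hj⟩ : ∃ j, Nat.card Z = 2 ^ j := (P.2.to_le hZP).exists_card_eq
    have hmem : ∀ x ∈ N, x ∈ Z := by
      let T : Subgroup G :=
        { carrier := {x | x ∈ N ∧ x ^ Nat.card M = 1}
          one_mem' := ⟨one_mem _, one_pow _⟩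
          inv_mem' := fun {x} hx => ⟨inv_mem hx.1, by rw [inv_pow, hx.2, inv_one]⟩
          mul_mem' := fun {x y} hx hy => ⟨mul_mem hx.1 hy.1, by
            -- the power map into the centre is the transfer
            have hidx : ((Z.subgroupOf N).index) = Nat.card M := by
              have e0 := relIndex_comap (⊥ : Subgroup (G ⧸ Z)) π N
              rw [MonoidHom.comap_bot, QuotientGroup.ker_mk', hN, map_comap_eq_self_of_surjective hπs,
                relIndex_bot_left] at e0
              exact e0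
            have hcen : Z.subgroupOf N ≤ Subgroup.center N := fun z hz =>
              mem_center_iff.2 fun b => Subtype.ext (mem_center_iff.1 (mem_subgroupOf.1 hz) b)
            obtain ⟨d, hd⟩ : (Subgroup.center N).index ∣ Nat.card M :=
              hidx ▸ index_dvd_of_le hcen
            have t := (MonoidHom.transferCenterPow N).map_mul ⟨x, hx.1⟩ ⟨y, hy.1⟩
            have t' := congrArg (fun q : Subgroup.center N => ((q : N) : G)) t
            simp only [MonoidHom.transferCenterPow_apply, coe_mul, SubmonoidClass.coe_pow] at t'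
            have hc : Commute (x ^ (Subgroup.center N).index) (y ^ (Subgroup.center N).index) := by
              have := (Subgroup.center N).pow_index_mem ⟨x, hx.1⟩
              exact (congrArg Subtype.val (mem_center_iff.1 this (⟨y, hy.1⟩ ^ (Subgroup.center N).index))).symm
            rw [hd, pow_mul, t', hc.mul_pow, ← pow_mul, ← pow_mul, ← hd, hx.2, hy.2, one_mul]⟩ }
      have hTn : T.Normal := ⟨fun x hx b => ⟨(inferInstance : N.Normal).conj_mem x hx.1 b, by
        rw [conj_pow, hx.2, mul_one, mul_inv_cancel]⟩⟩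
      have hTodd : ¬ 2 ∣ Nat.card T := fun h => by
        obtain ⟨x, hx⟩ := exists_prime_orderOf_dvd_card' 2 h
        have h1 : orderOf (x : G) ∣ Nat.card M := orderOf_dvd_of_pow_eq_one x.2.2
        rw [Subgroup.orderOf_coe, hx] at h1
        exact (Nat.not_even_iff_odd.2 hMo) (even_iff_two_dvd.2 h1)
      have hT1 : T ≤ ⊥ := hO ▸ CfsgLib.PCore.le_pPrimeCore_of_not_dvd hTn hTodd
      intro x hx
      have hxM : x ^ Nat.card M ∈ Z := by
        rw [← hπ1, map_pow]
        exact orderOf_dvd_iff_pow_eq_one.1 (M.orderOf_dvd_natCard hx)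
      have hx2 : x ^ 2 ^ j ∈ T := ⟨pow_mem hx _, by
        rw [← pow_mul, mul_comm, pow_mul, ← hj]
        exact orderOf_dvd_iff_pow_eq_one.1 (Z.orderOf_dvd_natCard hxM)⟩
      have h1 : (π x) ^ 2 ^ j = 1 := by rw [← map_pow, mem_bot.1 (hT1 hx2), map_one]
      rw [← hπ1]
      exact orderOf_eq_one_iff.1 (Nat.eq_one_of_dvd_coprimes
        (Nat.Coprime.pow_left j (Nat.coprime_two_left.2 hMo)) (orderOf_dvd_of_pow_eq_one h1)
        (M.orderOf_dvd_natCard hx))
    refine eq_bot_iff.2 fun y hy => ?_
    obtain ⟨x, rfl⟩ := hπs y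
    exact mem_bot.2 ((hπ1 x).2 (hmem x hy))
  have htop := CfsgLib.GW.Main.top_of_good hOb
    (CfsgLib.GW.Main.good_of_simple hS (G ⧸ Z) S' n (Or.inl ⟨e⟩))
  rcases htop with h | h | h | ⟨L, hLn, hLc, hL⟩
  · exfalso
    obtain ⟨g, hg, hgo⟩ := hE.odd
    obtain ⟨k, hk⟩ := h (π g)
    exact hg ((hπ1 g).1 (orderOf_eq_one_iff.1 (Nat.eq_one_of_dvd_coprimes
      (Nat.Coprime.pow_left k hgo.symm) (orderOf_dvd_of_pow_eq_one hk) (orderOf_map_dvd π g))))
  · exact Or.inl h
  · exact Or.inr (Or.inl h)
  · refine Or.inr (Or.inr ⟨L, hLn, ?_⟩)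
    obtain ⟨hsimp, hperf⟩ := CfsgLib.GW.Main.isSimple_and_perfect hL
    haveI := hsimp
    have hLcomm : L ≤ commutator (G ⧸ Z) := by
      have h2 : (commutator L).map L.subtype = L := by
        rw [hperf.1, ← MonoidHom.range_eq_map, range_subtype]
      conv_lhs => rw [← h2]
      rw [_root_.commutator_def, map_commutator, _root_.commutator_def]
      exact commutator_mono le_top le_top
    have hPbE : Pb ⊓ commutator (G ⧸ Z) ≤ Eb := by
      have hmap : commutator (G ⧸ Z) = (commutator G).map π := by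
        rw [_root_.commutator_def, _root_.commutator_def, map_commutator,
          map_top_of_surjective π hπs]
      rintro _ ⟨⟨p, hp, rfl⟩, hc⟩
      rw [SetLike.mem_coe, hmap] at hc
      obtain ⟨d, hd, hdp⟩ := hc
      have hdZ : p⁻¹ * d ∈ Z := by rw [← hπ1, map_mul, map_inv, hdp, inv_mul_cancel]
      have hdP : d ∈ (P : Subgroup G) := by
        simpa using mul_mem hp (hZP hdZ)
      exact ⟨d, hE.focal ⟨hdP, hd⟩, hdp⟩
    have h8 : ¬ 8 ∣ Nat.card L := by
      intro h
      obtain ⟨Q, hQ⟩ := Sylow.exists_subgroup_card_pow_prime 2 (n := 3) (by simpa using h)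
      obtain ⟨R, hR⟩ := ((IsPGroup.of_card hQ).map L.subtype).exists_le_sylow
      obtain ⟨a, ha⟩ := MulAction.exists_smul_eq (G ⧸ Z) R S'
      have hle : (Q.map L.subtype).map (MulAut.conj a).toMonoidHom ≤ Eb := by
        rintro _ ⟨_, ⟨x, hx, rfl⟩, rfl⟩
        refine hPbE ⟨?_, hLcomm (hLn.conj_mem _ x.2 a)⟩
        rw [SetLike.mem_coe, ← hS'c, ← ha]
        exact ⟨x, hR ⟨x, hx, rfl⟩, rfl⟩
      have := card_le_of_le hle
      rw [card_map_of_injective (MulAut.conj a).injective,
        card_map_of_injective L.subtype_injective, hQ, hEb4] at this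
      norm_num at this
    refine ⟨hsimp, ?_, hLc, ?_⟩
    · intro hc
      haveI := hc
      have h2 : commutator L = ⊥ := by
        rw [eq_bot_iff, _root_.commutator_def, commutator_le]
        intro a _ b _
        rw [mem_bot, commutatorElement_eq_one_iff_mul_comm]
        exact hc.is_comm.comm a b
      rw [hperf.1] at h2
      exact top_ne_bot h2
    · rcases hL with ⟨F, i1, i2, hodd, h3, ⟨f⟩⟩ | ⟨⟨f⟩⟩
      · refine ⟨F, i1, i2, h3, ?_, ⟨f⟩⟩
        have hc := CfsgLib.PSL2.card_psl (F := F)
        rw [← Nat.card_congr f.toEquiv] at hc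
        obtain ⟨m, hm⟩ := hodd
        rw [hm] at hc ⊢
        rw [show Nat.gcd 2 (2 * m + 1 - 1) = 2 by simp] at hc
        by_contra hne
        apply h8
        have : (2 * m + 1) % 8 = 1 ∨ (2 * m + 1) % 8 = 7 := by omega
        rcases this with h | h
        · obtain ⟨l, hl⟩ : ∃ l, m = 4 * l := ⟨m / 4, by omega⟩
          subst hl
          refine ⟨(4 * l + 1) * (8 * l + 1) * l, ?_⟩
          rw [show 2 * (4 * l) + 1 - 1 = 8 * l by omega] at hc
          ring_nf at hc ⊢
          omega
        · obtain ⟨l, hl⟩ : ∃ l, m = 4 * l + 3 := ⟨m / 4, by omega⟩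
          subst hl
          refine ⟨(l + 1) * (8 * l + 7) * (4 * l + 3), ?_⟩
          rw [show 2 * (4 * l + 3) + 1 - 1 = 8 * l + 6 by omega] at hc
          ring_nf at hc ⊢
          omega
      · exfalso
        apply h8
        rw [Nat.card_congr f.toEquiv, nat_card_alternatingGroup, Nat.card_fin]
        decide

end CfsgLib.TwoClasses78
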